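import Groth.Agent.H23KS.DualSum
import Groth.Agent.H10Coh.TensorBasics
import Groth.Agent.H11Proj.Finite
import Mathlib

/-!
# Duals of tensor powers
-/

set_option autoImplicit false
set_option linter.style.haveILetI false
set_option linter.unusedSectionVars false

universe u

open CategoryTheory CategoryTheory.Limits AlgebraicGeometry

noncomputable section

namespace Groth.Agent.H23Weil

open Groth.Agent

variable {X : Scheme.{u}}

/-- The dual of a tensor product of finite locally free modules. -/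
def dualTensorIso (F E : X.Modules) (hE : FlatMod.IsFinLocFree E) :
    RefHull.dual (CohB1.tensorMod F E) ≅ CohB1.tensorMod (RefHull.dual F) (RefHull.dual E) :=
  (H10Inj.SheafExt.homTensorIso E F).app (Coh.structureModule X) ≪≫
    ((H10Inj.SheafExt.dualHomIso E hE).app _).symm ≪≫ H10Coh.Tw.commIso _ _

theorem nonempty_dual_unit :
    Nonempty (RefHull.dual (Coh.structureModule X) ≅ Coh.structureModule X) :=
  (H10Coh.SheafHom.nonempty_endIso H11Proj.isInvertible_structureModule).map Iso.symm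

/-- The dual of a tensor power. -/
theorem nonempty_dual_tensorPow {E : X.Modules} (hE : FlatMod.IsFinLocFree E) :
    ∀ n : ℕ, Nonempty (RefHull.dual (CohB1.tensorPow E n) ≅ CohB1.tensorPow (RefHull.dual E) n)
  | 0 => nonempty_dual_unit
  | n + 1 => by
    obtain ⟨e⟩ := nonempty_dual_tensorPow hE n
    exact ⟨dualTensorIso _ E hE ≪≫ H10Inj.SheafExt.tensorModIso e (Iso.refl _)⟩

/-- The polynomial `P(E)` in a module `E`. -/
abbrev polyMod (P : Polynomial ℕ) (E : X.Modules) : X.Modules :=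
  ∐ fun i : Fin (P.natDegree + 1) => ∐ fun _ : Fin (P.coeff ↑i) => CohB1.tensorPow E ↑i

theorem nonempty_dual_polyMod {E : X.Modules} (hE : FlatMod.IsFinLocFree E) (P : Polynomial ℕ) :
    Nonempty (RefHull.dual (polyMod P E) ≅ polyMod P (RefHull.dual E)) := by
  refine ⟨H23KS.dualSigma _ ≪≫ Sigma.mapIso fun i => H23KS.dualSigma _ ≪≫ Sigma.mapIso fun _ =>
    Classical.choice (nonempty_dual_tensorPow hE i)⟩

/-- An identity between polynomials in `E` holds in the dual as well. -/
theorem nonempty_polyMod_dual {E : X.Modules} (hE : FlatMod.IsFinLocFree E) (P Q : Polynomial ℕ)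
    (h : Nonempty (polyMod P E ≅ polyMod Q E)) :
    Nonempty (polyMod P (RefHull.dual E) ≅ polyMod Q (RefHull.dual E)) := by
  obtain ⟨e⟩ := h
  obtain ⟨a⟩ := nonempty_dual_polyMod hE P
  obtain ⟨b⟩ := nonempty_dual_polyMod hE Q
  exact ⟨a.symm ≪≫ RefFun.dualIso e ≪≫ b⟩

theorem tensorPow_congr {E E' : X.Modules} (e : E ≅ E') : ∀ n : ℕ,
    Nonempty (CohB1.tensorPow E n ≅ CohB1.tensorPow E' n)
  | 0 => ⟨Iso.refl _⟩
  | n + 1 => by
    obtain ⟨a⟩ := tensorPow_congr e n
    exact ⟨H10Inj.SheafExt.tensorModIso a e⟩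

theorem polyMod_congr {E E' : X.Modules} (e : E ≅ E') (P : Polynomial ℕ) :
    Nonempty (polyMod P E ≅ polyMod P E') :=
  ⟨Sigma.mapIso fun i => Sigma.mapIso fun _ => Classical.choice (tensorPow_congr e i)⟩

theorem finite_iff_dual {E : X.Modules} (hE : FlatMod.IsFinLocFree E) (P Q : Polynomial ℕ) :
    Nonempty (polyMod P E ≅ polyMod Q E) ↔
      Nonempty (polyMod P (RefHull.dual E) ≅ polyMod Q (RefHull.dual E)) := by
  refine ⟨nonempty_polyMod_dual hE P Q, fun h => ?_⟩
  haveI := H10Inj.SheafExt.isIso_bidualMap hE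
  obtain ⟨a⟩ := polyMod_congr (asIso (RefHull.bidualMap E)) P
  obtain ⟨b⟩ := polyMod_congr (asIso (RefHull.bidualMap E)) Q
  obtain ⟨c⟩ := nonempty_polyMod_dual (H10Inj.SheafExt.isFinLocFree_dual hE) P Q h
  exact ⟨a ≪≫ c ≪≫ b.symm⟩

end Groth.Agent.H23Weil
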